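import Cfsg.Agent.H442.DS.J3
import Cfsg.Agent.H704.DS.K.He
import Cfsg.Agent.H704.DS.K.HN
import Cfsg.Agent.H547.SelfCent.He
import Cfsg.Agent.H845.HNNineteen
import Cfsg.Agent.NotCT.Orders
import Cfsg.Agent.H14.KnownSimple

/-!
# S4906, the rows `He` and `HN` (helper442)
-/

set_option autoImplicit false

namespace Cfsg.Agent.H442.DS

open Cfsg Cfsg.Agent.H704 Cfsg.Agent.H704.DS
open Subgroup (centralizer)

universe u

theorem facts_he {K : Type u} [Group K] [Finite K] (h : Spor.IsoHe K) (him : IM K) :
    Facts K 4030387200 [2, 3, 5, 7, 17] [(17, 8)] := by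
  have hN := NotCT.Orders.he h
  have hS : IsSporadicGroup K := by unfold IsSporadicGroup; tauto
  have hs : IsSimpleGroup K := Cfsg.Agent.H14.KnownSimple.sporadic hS
  exact
  { card := hN
    perfect := perfect hs (by rw [hN]; norm_num)
    prime := by
      intro p hp
      simp only [List.mem_cons, List.not_mem_nil, or_false] at hp
      rcases hp with rfl | rfl | rfl | rfl | rfl <;> exact ⟨by norm_num, by norm_num⟩
    im := him
    sc := by
      intro q hq
      simp only [List.mem_cons, List.not_mem_nil, or_false] at hq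
      subst hq
      exact SCok.mk' 17 (by norm_num) (by norm_num) (by rw [hN]; norm_num) (by rw [hN]; norm_num)
        (fun y hy => H547.SelfCent.HeRow.he h hN hy) (by rw [hN]) (by norm_num) }

/-- **The row `He` of S4906.** -/
theorem row_he {K : Type u} [Group K] [Finite K] (h : Spor.IsoHe K) (him : H704.DS.IM K) {n : ℕ} (hd : DegOK n K) :
    False :=
  H704.DS.K.He.kill (facts_he h him) hd.degM

theorem cent_hn {K : Type u} [Group K] [Finite K] (h : Spor.IsoHN K) {y : K} (hy : orderOf y = 19) :
    Nat.card (centralizer ({y} : Set K)) = 19 := by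
  have hN := NotCT.Orders.hn h
  obtain ⟨e⟩ := h
  have hfin : Finite Spor.HN := Finite.of_equiv _ e.toEquiv
  have hcard : Nat.card Spor.HN = 273030912000000 := by rw [← Nat.card_congr e.toEquiv, hN]
  obtain ⟨x19, hx19, hc19⟩ := H845.HNNineteen.hn_nineteen
  have h1 : Nat.card ↥(centralizer ({e y} : Set Spor.HN)) = 19 := by
    rw [H547.SelfCent.card_cent_eq (r := 19) (by norm_num) (by rw [hcard]; norm_num) (x := e y) (y := x19)
      (by rw [MulEquiv.orderOf_eq, hy]) hx19, hc19]
  rw [← h1]
  refine Nat.card_congr (e.toEquiv.subtypeEquiv fun a => ?_)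
  rw [Subgroup.mem_centralizer_singleton_iff, Subgroup.mem_centralizer_singleton_iff]
  show a * y = y * a ↔ e a * e y = e y * e a
  rw [← map_mul, ← map_mul, e.injective.eq_iff]

theorem facts_hn {K : Type u} [Group K] [Finite K] (h : Spor.IsoHN K) (him : IM K) :
    Facts K 273030912000000 [2, 3, 5, 7, 11, 19] [(19, 9)] := by
  have hN := NotCT.Orders.hn h
  have hS : IsSporadicGroup K := by unfold IsSporadicGroup; tauto
  have hs : IsSimpleGroup K := Cfsg.Agent.H14.KnownSimple.sporadic hS
  exact
  { card := hN
    perfect := perfect hs (by rw [hN]; norm_num)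
    prime := by
      intro p hp
      simp only [List.mem_cons, List.not_mem_nil, or_false] at hp
      rcases hp with rfl | rfl | rfl | rfl | rfl | rfl <;> exact ⟨by norm_num, by norm_num⟩
    im := him
    sc := by
      intro q hq
      simp only [List.mem_cons, List.not_mem_nil, or_false] at hq
      subst hq
      exact SCok.mk' 19 (by norm_num) (by norm_num) (by rw [hN]; norm_num) (by rw [hN]; norm_num)
        (fun y hy => cent_hn h hy) (by rw [hN]) (by norm_num) }

/-- **The row `HN` of S4906.** -/
theorem row_hn {K : Type u} [Group K] [Finite K] (h : Spor.IsoHN K) (him : H704.DS.IM K) {n : ℕ} (hd : DegOK n K) :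
    False :=
  H704.DS.K.HN.kill (facts_hn h him) hd.degM

end Cfsg.Agent.H442.DS
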