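import Cfsg.Agent.H417.JThreeDeg
import Cfsg.Agent.H621.SymDeg.Chars
import Cfsg.Agent.H704.DegOK
import Cfsg.Agent.H704.LowDegree
import Cfsg.Agent.H704.EnumP
import Cfsg.Agent.H999.DS.Lev

/-!
# S4906, row `J₃` (helper442)

The largest degree of `J₃` is `3078`; neither `3078` nor `6156` is a degree of `S_n`, unless `n` is `3079` or `6157`.
-/

set_option autoImplicit false

namespace Cfsg.Agent.H442.DS

open Cfsg Cfsg.Agent.H704 Cfsg.Agent
open scoped commutatorElement

universe u

/-- the check -/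
def chk (d : ℕ) : Bool := !(Nat.beq d 3078) && !(Nat.beq d 6156)

theorem of_chk {d : ℕ} (h : chk d = true) : d ≠ 3078 ∧ d ≠ 6156 := by
  unfold chk at h
  rw [Bool.and_eq_true, Bool.not_eq_true', Bool.not_eq_true'] at h
  constructor
  · rintro rfl; exact absurd h.1 (by decide)
  · rintro rfl; exact absurd h.2 (by decide)

/-- `19 ≤ n ≤ 22` -/
theorem small {n d : ℕ} (h19 : 19 ≤ n) (hn : n ≤ 22) (hd : IsDeg n d) (hd' : d = 3078 ∨ d = 6156) : False := by
  have h17 : ¬ 17 ∣ d := by
    rcases hd' with rfl | rfl <;> norm_num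
  have h1 : d ≠ 3078 ∧ d ≠ 6156 := by
    interval_cases n
    · exact of_chk (check_of_isDegP (chk := chk) (r := 17) (E := 2) (by norm_num) (by norm_num) (by norm_num)
        (by decide +kernel) hd h17)
    · exact of_chk (check_of_isDegP (chk := chk) (r := 17) (E := 3) (by norm_num) (by norm_num) (by norm_num)
        (by decide +kernel) hd h17)
    · exact of_chk (check_of_isDegP (chk := chk) (r := 17) (E := 4) (by norm_num) (by norm_num) (by norm_num)
        (by decide +kernel) hd h17)
    · exact of_chk (check_of_isDegP (chk := chk) (r := 17) (E := 5) (by norm_num) (by norm_num) (by norm_num)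
        (by decide +kernel) hd h17)
  omega

/-- `23 ≤ n ≤ 112` -/
theorem medium {n d : ℕ} (h23 : 23 ≤ n) (hn : n < 23 + 90) (hd : IsDeg n d) (hd' : d = 3078 ∨ d = 6156) : False := by
  rcases hd' with rfl | rfl
  · exact H999.DS.not_isDeg (H999.DS.lb_of_le (by norm_num) H999.DS.lb23 h23) (by norm_num) (by omega) (by omega)
      (H999.DS.range_chk (a := 23) (m := 90) (by decide +kernel) h23 hn) hd
  · exact H999.DS.not_isDeg (H999.DS.lb_of_le (by norm_num) H999.DS.lb23 h23) (by norm_num) (by omega) (by omega)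
      (H999.DS.range_chk (a := 23) (m := 90) (by decide +kernel) h23 hn) hd

theorem n_eq {n d : ℕ} (hd : IsDeg n d) (hd' : d = 3078 ∨ d = 6156) : n = 3079 ∨ n = 6157 := by
  have h19 : 19 ≤ n := H999.DS.le_of_prime hd (by norm_num) (by rcases hd' with rfl | rfl <;> norm_num)
  rcases Nat.lt_or_ge n 23 with h | h
  · exact (small h19 (by omega) hd hd').elim
  rcases Nat.lt_or_ge n 113 with h' | h'
  · exact (medium h (by omega) hd hd').elim
  rcases low_degree (by omega) hd with h1 | h1 | h1
  · omega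
  · omega
  · exfalso
    have h2 : 113 * 110 ≤ n * (n - 3) := Nat.mul_le_mul h' (by omega)
    omega

theorem perfect {K : Type*} [Group K] (hs : IsSimpleGroup K) (h : ¬ (Nat.card K).Prime) : commutator K = ⊤ := by
  rcases hs.eq_bot_or_eq_top_of_normal (commutator K) inferInstance with h1 | h1
  · exfalso
    apply h
    let _ : CommGroup K := { (inferInstance : Group K) with
      mul_comm := by
        intro x y
        have h2 : ⁅x, y⁆ ∈ commutator K := Subgroup.commutator_mem_commutator (Subgroup.mem_top x) (Subgroup.mem_top y)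
        rw [h1, Subgroup.mem_bot, commutatorElement_eq_one_iff_mul_comm] at h2
        exact h2 }
    exact IsSimpleGroup.prime_card
  · exact h1

/-- **The row `J₃` of S4906.** -/
theorem row_j3 {K : Type u} [Group K] [Finite K] (h : Spor.IsoJ3 K) {n : ℕ} (_hn : 5 ≤ n) (hd : DegOK n K) : False := by
  obtain ⟨⟨χ, hχ⟩, hmax⟩ := H417.JThreeDeg.max_degree h
  obtain ⟨d, h1, h2⟩ := hd χ χ.2
  have h3 : ((χ : IrrCharacter K) : K → ℂ) 1 = ((3078 : ℕ) : ℂ) := by
    rw [← hχ]
    exact M23Order.Base.dg_eq χ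
  have h4 : d = 3078 ∨ d = 6156 := by
    rw [h3] at h2
    rcases h2 with h2 | h2
    · left; exact_mod_cast h2
    · right
      have : (d : ℂ) = ((6156 : ℕ) : ℂ) := by rw [h2]; norm_num
      exact_mod_cast this
  have h5 := n_eq h1 h4
  have hs := (H898.J3Cent.base h).1
  have hcard := (H898.J3Cent.base h).2.1
  have hperf : commutator K = ⊤ := perfect hs (by rw [hcard]; norm_num)
  obtain ⟨ψ, e, hψ, hψe, he1, hpe, heT, -⟩ := H621.SymDeg.exists_irr_not_dvd hperf (r := 19) (by norm_num)
    (by rw [hcard]; norm_num)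
  obtain ⟨d', g1, g2⟩ := hd ψ hψ
  have he2 : e ≤ 3078 := by
    have h7 := hmax ⟨ψ, hψ⟩
    have h8 := M23Order.Base.dg_eq (⟨ψ, hψ⟩ : IrrCharacter K)
    rw [show ((⟨ψ, hψ⟩ : IrrCharacter K) : K → ℂ) 1 = (e : ℂ) from hψe] at h8
    have h9 : e = M23Order.Base.dg (⟨ψ, hψ⟩ : IrrCharacter K) := by exact_mod_cast h8
    omega
  have g3 : d' = e ∨ d' = 2 * e := by
    rw [hψe] at g2
    rcases g2 with g2 | g2
    · left; exact_mod_cast g2
    · right; exact_mod_cast g2
  rcases low_degree (by omega) g1 with g4 | g4 | g4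
  · omega
  · rcases h5 with rfl | rfl
    · omega
    · omega
  · rcases h5 with rfl | rfl
    · omega
    · omega

end Cfsg.Agent.H442.DS
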